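import Groth.Prelude.Def_W4stkschemesremainderFib
import Groth.Agent.Lib.AlgSpDecent.EtaleBdd
import Mathlib.AlgebraicGeometry.Morphisms.FlatRank

/-!
# Fibre degrees via field valued points
-/

universe u

set_option backward.isDefEq.respectTransparency.types false

open CategoryTheory CategoryTheory.Limits AlgebraicGeometry

namespace Groth.Agent.BddFib19

open AlgSpDecent

theorem finiteOfDegLE_iff {K : Type u} [Field K] {T : Scheme.{u}} (c : T ⟶ Spec (CommRingCat.of K))
    (n : ℕ) : BddFib.FiniteOfDegLE (CommRingCat.of K) c n ↔ FinLE n c := by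
  letI : Algebra K Γ(T, ⊤) := BddFib.secAlgebra (CommRingCat.of K) c
  have key : ∀ [IsAffine T], T.isoSpec.hom ≫ Spec.map (CommRingCat.ofHom (algebraMap K Γ(T, ⊤))) = c := by
    intro _
    rw [show CommRingCat.ofHom (algebraMap K Γ(T, ⊤)) = (Scheme.ΓSpecIso (CommRingCat.of K)).inv ≫ c.appTop
      from rfl, Spec.map_comp, ← Scheme.isoSpec_Spec_inv, Scheme.isoSpec_inv_naturality, Iso.hom_inv_id_assoc]
  constructor
  · rintro ⟨hA, hfin, hle⟩
    haveI := hA
    exact key ▸ (finLE_iso_comp_iff T.isoSpec _).2 (finLE_spec_iff.2 ⟨hfin, hle⟩)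
  · intro h
    haveI := h.isAffine
    exact ⟨inferInstance, finLE_spec_iff.1 ((finLE_iso_comp_iff T.isoSpec _).1 (key.symm ▸ h))⟩

theorem finLE_baseChange {K L : Type u} [Field K] [Field L] {n : ℕ} {T P : Scheme.{u}} {a : P ⟶ T}
    {b : P ⟶ Spec (CommRingCat.of L)} {c : T ⟶ Spec (CommRingCat.of K)}
    {φ : Spec (CommRingCat.of L) ⟶ Spec (CommRingCat.of K)} (sq : IsPullback a b c φ)
    (h : FinLE n c) : FinLE n b := by
  haveI := h.1
  haveI : IsIntegral (Spec (CommRingCat.of K)) := inferInstance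
  haveI : Subsingleton ↥(Spec (CommRingCat.of K)) := inferInstanceAs (Subsingleton (PrimeSpectrum K))
  haveI : Flat c := inferInstance
  exact ⟨MorphismProperty.of_isPullback (P := @IsFinite) sq h.1,
    fun s => by rw [Scheme.Hom.finrank_of_isPullback a b c φ sq s]; exact h.2 _⟩

theorem finLE_of_iso {K : Type u} [Field K] {n : ℕ} {T T' : Scheme.{u}} (e : T' ≅ T)
    {c : T ⟶ Spec (CommRingCat.of K)} {c' : T' ⟶ Spec (CommRingCat.of K)} (he : e.hom ≫ c = c')
    (h : FinLE n c) : FinLE n c' := he ▸ (finLE_iso_comp_iff e c).2 h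

/-- All fibres over field-valued points are finite of degree at most `n`. -/
def AllLE {X Y : Scheme.{u}} (f : X ⟶ Y) (n : ℕ) : Prop :=
  ∀ (K : Type u) [Field K] (g : Spec (CommRingCat.of K) ⟶ Y), FinLE n (pullback.snd f g)

theorem exists_factor {Y : Scheme.{u}} {K : Type u} [Field K] (g : Spec (CommRingCat.of K) ⟶ Y) :
    ∃ (y : Y) (φ : Y.residueField y ⟶ CommRingCat.of K), Spec.map φ ≫ Y.fromSpecResidueField y = g :=
  ⟨_, _, Scheme.descResidueField_stalkClosedPointTo_fromSpecResidueField K Y g⟩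

theorem allLE_iff_fibre {X Y : Scheme.{u}} (f : X ⟶ Y) (n : ℕ) :
    AllLE f n ↔ ∀ y : Y, FinLE (K := Y.residueField y) n (f.fiberToSpecResidueField y) := by
  refine ⟨fun h y => h (Y.residueField y) (Y.fromSpecResidueField y), fun h K _ g => ?_⟩
  obtain ⟨y, φ, rfl⟩ := exists_factor g
  exact finLE_baseChange (K := Y.residueField y)
    (IsPullback.of_hasPullback (pullback.snd f (Y.fromSpecResidueField y)) (Spec.map φ))
    (h y) |> finLE_of_iso (pullbackLeftPullbackSndIso f (Y.fromSpecResidueField y) (Spec.map φ)).symm (by simp)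

theorem fibreDegLE_iff {X Y : Scheme.{u}} (f : X ⟶ Y) (n : ℕ) :
    BddFib.FibreDegLE f n ↔ AllLE f n := by
  rw [allLE_iff_fibre]
  exact forall_congr' fun y => finiteOfDegLE_iff (K := Y.residueField y) (f.fiberToSpecResidueField y) n

theorem AllLE.baseChange {X Y X' Y' : Scheme.{u}} {f : X ⟶ Y} {g : Y' ⟶ Y} {f' : X' ⟶ Y'} {g' : X' ⟶ X}
    (sq : IsPullback g' f' f g) {n : ℕ} (h : AllLE f n) : AllLE f' n := by
  intro K _ x
  have s := (IsPullback.of_hasPullback f' x).paste_horiz sq
  exact finLE_of_iso s.isoPullback s.isoPullback_hom_snd (h K (x ≫ g))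

theorem AllLE.comp {X Y Z : Scheme.{u}} {f : X ⟶ Y} {g : Y ⟶ Z} {n m : ℕ} (hf : AllLE f n) (hg : AllLE g m) :
    AllLE (f ≫ g) (n * m) := by
  intro K _ x
  have hf' : AllLE (pullback.snd f (pullback.fst g x)) n := hf.baseChange (IsPullback.of_hasPullback _ _)
  have h := finLE_comp (hg K x) (pullback.snd f (pullback.fst g x)) hf'
  exact finLE_of_iso (pullbackRightPullbackFstIso g x f).symm (by simp) h

theorem AllLE.of_surjective {X Y X' Y' : Scheme.{u}} {f : X ⟶ Y} {g : Y' ⟶ Y} [Surjective g] {f' : X' ⟶ Y'}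
    {g' : X' ⟶ X} (sq : IsPullback g' f' f g) {n : ℕ} (h : AllLE f' n) : AllLE f n := by
  rw [allLE_iff_fibre]
  intro y
  obtain ⟨y', rfl⟩ := g.surjective y
  have s : IsPullback (pullback.fst f' (Y'.fromSpecResidueField y') ≫ g')
      (f'.fiberToSpecResidueField y') f
      (Spec.map (g.residueFieldMap y') ≫ Y.fromSpecResidueField (g y')) := by
    rw [Scheme.Hom.SpecMap_residueFieldMap_fromSpecResidueField]
    exact (IsPullback.of_hasPullback f' (Y'.fromSpecResidueField y')).paste_horiz sq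
  have s' := IsPullback.of_right' s (IsPullback.of_hasPullback f (Y.fromSpecResidueField (g y')))
  exact finLE_of_fieldExt (K := Y.residueField (g y')) (L := Y'.residueField y') s'
    (h _ (Y'.fromSpecResidueField y'))

theorem AllLE.of_flat_surjective {X Y Z : Scheme.{u}} {f : X ⟶ Y} {h : Y ⟶ Z} [Flat f] [Surjective f] {n : ℕ}
    (hg : AllLE (f ≫ h) n) : AllLE h n := by
  intro K _ x
  refine finLE_of_surjective_flat (pullback.snd f (pullback.fst h x)) ?_
  exact finLE_of_iso (pullbackRightPullbackFstIso h x f) (by simp) (hg K x)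

end Groth.Agent.BddFib19
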