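import Groth.Agent.Lib.BddFib19.Basic
import Mathlib.AlgebraicGeometry.Morphisms.QuasiFinite
import Mathlib.AlgebraicGeometry.ZariskisMainTheorem

/-!
# Quasi-finite morphisms from quasi-compact schemes have universally bounded fibres
-/

universe u

set_option backward.isDefEq.respectTransparency.types false

open CategoryTheory CategoryTheory.Limits AlgebraicGeometry TensorProduct

namespace Groth.Agent.BddFib19

open AlgSpDecent

theorem allLE_one_of_isImmersion {X Y : Scheme.{u}} (f : X ⟶ Y) [IsImmersion f] : AllLE f 1 := by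
  intro K _ g
  haveI : Subsingleton ↥(Spec (CommRingCat.of K)) := inferInstanceAs (Subsingleton (PrimeSpectrum K))
  haveI : IsImmersion (pullback.snd f g) := inferInstance
  haveI : IsClosedImmersion (pullback.snd f g) := .of_isPreimmersion _ (isClosed_discrete _)
  rcases isEmpty_or_nonempty ↥(pullback f g) with he | hne
  · exact finLE_zero_of_isEmpty _
  haveI : Surjective (pullback.snd f g) := ⟨fun s => ⟨hne.some, Subsingleton.elim _ _⟩⟩
  haveI := isIso_of_isClosedImmersion_of_surjective (pullback.snd f g)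
  have h1 : FinLE 1 (Spec.map (CommRingCat.ofHom (algebraMap K K))) :=
    finLE_spec_iff.2 ⟨inferInstance, le_of_eq (Module.finrank_self K)⟩
  refine finLE_of_iso (asIso (pullback.snd f g)) ?_ h1
  rw [show CommRingCat.ofHom (algebraMap K K) = 𝟙 (CommRingCat.of K) from rfl, Spec.map_id, asIso_hom, Category.comp_id]

theorem allLE_spec_finite (A C : Type u) [CommRing A] [CommRing C] [Algebra A C] (n : ℕ)
    (c : Fin n → C) (hc : Submodule.span A (Set.range c) = ⊤) :
    AllLE (Spec.map (CommRingCat.ofHom (algebraMap A C))) n := by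
  intro K _ g
  obtain ⟨φ, rfl⟩ := Spec.map_surjective g
  algebraize [φ.hom]
  have hφ : φ = CommRingCat.ofHom (algebraMap A K) := rfl
  rw [hφ]
  haveI : Module.Finite A C := ⟨Submodule.fg_def.mpr ⟨_, Set.finite_range _, hc⟩⟩
  refine finLE_of_iso (T := Spec (CommRingCat.of (K ⊗[A] C)))
    (c := Spec.map (CommRingCat.ofHom (algebraMap K (K ⊗[A] C))))
    (pullbackSymmetry _ _ ≪≫ pullbackSpecIso A K C) ?_ (finLE_spec_iff.2 ⟨inferInstance, ?_⟩)
  · simp [← pullbackSpecIso_inv_fst']
  · let l : (Fin n → A) →ₗ[A] C := Fintype.linearCombination A c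
    have hl : Function.Surjective l := by
      rw [← LinearMap.range_eq_top, Fintype.range_linearCombination, hc]
    refine (LinearMap.finrank_le_finrank_of_surjective (f := l.baseChange K)
      (LinearMap.lTensor_surjective K hl)).trans ?_
    haveI : Nontrivial A := (algebraMap A K).domain_nontrivial
    rw [Module.finrank_baseChange, Module.finrank_fin_fun]

theorem finLE_open_cover {K : Type u} [Field K] {T : Scheme.{u}} {c : T ⟶ Spec (CommRingCat.of K)}
    {ι : Type*} (O : ι → T.Opens) (d : ι → ℕ) (h : ∀ i, FinLE (d i) ((O i).ι ≫ c)) (s : Finset ι) :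
    FinLE (∑ i ∈ s, d i) ((s.sup O).ι ≫ c) := by
  classical
  induction s using Finset.induction_on with
  | empty =>
    haveI : IsEmpty ((∅ : Finset ι).sup O).toScheme := ⟨fun x => x.2⟩
    exact finLE_zero_of_isEmpty _
  | @insert i s hi ih =>
    rw [Finset.sum_insert hi, Finset.sup_insert]
    exact finLE_sup (h i) ih

theorem exists_allLE {X Y : Scheme.{u}} (f : X ⟶ Y) [LocallyQuasiFinite f] [LocallyOfFiniteType f]
    [CompactSpace X] : ∃ d, AllLE f d := by
  classical
  have loc : ∀ x : X, ∃ (W : Scheme.{u}) (j : W ⟶ X) (d : ℕ),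
      IsOpenImmersion j ∧ x ∈ Set.range j ∧ AllLE (j ≫ f) d := by
    intro x
    obtain ⟨V, hV, hxV, -⟩ := exists_isAffineOpen_mem_and_subset (U := ⊤) (x := f x) (Set.mem_univ _)
    obtain ⟨U, hU, hxU, hUV⟩ := exists_isAffineOpen_mem_and_subset (U := f ⁻¹ᵁ V) (x := x) hxV
    let φ := f.appLE V U hUV
    have hft : φ.hom.FiniteType := f.finiteType_appLE hV hU hUV
    have hqf : φ.hom.QuasiFinite := HasRingHomProperty.appLE (P := @LocallyQuasiFinite) f ‹_› ⟨V, hV⟩ ⟨U, hU⟩ hUV
    algebraize [φ.hom]
    let q : PrimeSpectrum Γ(X, U) := hU.primeIdealOf ⟨x, hxU⟩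
    obtain ⟨C, hC, r, hrq, hbij⟩ :=
      Algebra.QuasiFiniteAt.exists_fg_and_exists_notMem_and_awayMap_bijective (R := Γ(Y, V)) q.asIdeal
    obtain ⟨n, c, hc⟩ := Submodule.fg_iff_exists_fin_generating_family.mp hC
    have hmem : ∀ i, c i ∈ C := fun i => by
      have : c i ∈ Subalgebra.toSubmodule C := hc ▸ Submodule.subset_span ⟨i, rfl⟩
      exact this
    let c' : Fin n → C := fun i => ⟨c i, hmem i⟩
    have hc' : Submodule.span Γ(Y, V) (Set.range c') = ⊤ := by
      apply Submodule.map_injective_of_injective (f := C.val.toLinearMap) Subtype.val_injective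
      rw [Submodule.map_span, ← Set.range_comp, Submodule.map_top]
      refine hc.trans ?_
      ext a
      exact ⟨fun ha => ⟨⟨a, ha⟩, rfl⟩, by rintro ⟨b, rfl⟩; exact b.2⟩
    let Sr := Localization.Away (C.val.toRingHom r)
    let Cr := Localization.Away r
    let ψ : Cr →+* Sr := Localization.awayMap C.val.toRingHom r
    have : IsIso (Spec.map (CommRingCat.ofHom ψ)) := by
      have : IsIso (CommRingCat.ofHom ψ) := (ConcreteCategory.isIso_iff_bijective _).mpr hbij
      infer_instance
    let jS : Spec (.of Sr) ⟶ Spec Γ(X, U) := Spec.map (CommRingCat.ofHom (algebraMap Γ(X, U) Sr))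
    let jC : Spec (.of Sr) ⟶ Spec (.of C) :=
      Spec.map (CommRingCat.ofHom ψ) ≫ Spec.map (CommRingCat.ofHom (algebraMap C Cr))
    have : IsOpenImmersion jS := .of_isLocalization (C.val.toRingHom r)
    have : IsOpenImmersion (Spec.map (CommRingCat.ofHom (algebraMap C Cr))) := .of_isLocalization r
    have key : (jS ≫ hU.fromSpec) ≫ f =
        (jC ≫ Spec.map (CommRingCat.ofHom (algebraMap Γ(Y, V) C))) ≫ hV.fromSpec := by
      rw [Category.assoc, ← hV.SpecMap_appLE_fromSpec f hU hUV, ← Category.assoc]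
      congr 1
      simp only [jS, jC, ← Spec.map_comp, Category.assoc]
      congr 1
      ext a
      show algebraMap Γ(X, U) Sr (φ a) = ψ (algebraMap C Cr (algebraMap Γ(Y, V) C a))
      simp only [ψ, Localization.awayMap, IsLocalization.Away.map, IsLocalization.map_eq]
      rfl
    refine ⟨_, jS ≫ hU.fromSpec, 1 * (n * 1), inferInstance, ?_, ?_⟩
    · obtain ⟨p, hp⟩ : q ∈ Set.range jS := by
        show q ∈ Set.range (PrimeSpectrum.comap (algebraMap Γ(X, U) Sr))
        rw [PrimeSpectrum.localization_away_comap_range Sr (C.val.toRingHom r)]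
        exact hrq
      refine ⟨p, ?_⟩
      rw [Scheme.Hom.comp_apply, hp, hU.fromSpec_primeIdealOf]
    · rw [key, Category.assoc]
      exact (allLE_one_of_isImmersion jC).comp
        ((allLE_spec_finite _ _ n c' hc').comp (allLE_one_of_isImmersion hV.fromSpec))
  choose W j d hj hx hd using loc
  obtain ⟨t, ht⟩ := isCompact_univ.elim_finite_subcover (fun x => Set.range (j x))
    (fun x => (j x).isOpenEmbedding.isOpen_range) (fun x _ => Set.mem_iUnion.mpr ⟨x, hx x⟩)
  refine ⟨∑ x ∈ t, d x, fun K _ g => ?_⟩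
  let O := fun x => pullback.fst f g ⁻¹ᵁ (j x).opensRange
  have hO : ∀ x, FinLE (d x) ((O x).ι ≫ pullback.snd f g) := by
    intro x
    let r := pullback.fst (pullback.fst f g) (j x)
    have hr : r.opensRange = O x := Scheme.Hom.opensRange_pullbackFst _ _
    have s1 : IsPullback (pullback.snd (pullback.fst f g) (j x)) (r ≫ pullback.snd f g) (j x ≫ f) g :=
      (IsPullback.of_hasPullback (pullback.fst f g) (j x)).flip.paste_vert (IsPullback.of_hasPullback f g)
    have h1 : FinLE (d x) (r ≫ pullback.snd f g) := finLE_of_iso s1.isoPullback s1.isoPullback_hom_snd (hd x K g)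
    refine finLE_of_iso (((pullback f g).isoOfEq hr.symm) ≪≫ r.isoOpensRange.symm) ?_ h1
    rw [← cancel_epi ((pullback f g).isoOfEq hr).hom]
    simp only [Iso.trans_hom, Iso.symm_hom, Category.assoc]
    simp [r]
  have htop : t.sup O = ⊤ := by
    rw [eq_top_iff]
    intro z _
    obtain ⟨x, hxt, hz⟩ := Set.mem_iUnion₂.mp (ht (Set.mem_univ (pullback.fst f g z)))
    exact Finset.le_sup (f := O) hxt hz
  have h2 := finLE_open_cover O d hO t
  rw [htop] at h2
  exact (finLE_iso_comp_iff (pullback f g).topIso _).1 h2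

end Groth.Agent.BddFib19
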